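import Cfsg.Agent.H51.SY.Num
import Cfsg.Agent.KFacts.ON.Qs
import Cfsg.Agent.KFacts.ON.OneClass
import Cfsg.Agent.SporRec.ONFinal

/-!
# S3846: the O'Nan group (helper51)

`p = 5` : the centralizer `4.L₃(4)` of an element of order 4; `p = 7` : the subgroup `L₃(7):2`; `p = 11, 19` : by
order; `p = 31` : Theorem O for the prime `2`.
-/

set_option autoImplicit false

namespace Cfsg.Agent.H51.SY.ON

open Subgroup Cfsg.Agent.H301.SY Cfsg.Agent.H459.Rad Cfsg.Agent.H51.SY
open Cfsg.Spor (ON)
open Cfsg.Agent.SporadicB.ON45Word (on)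
open Cfsg.Agent.KFacts.ON.Struct (J card_J)
open Cfsg.Agent.KFacts.ON.Words (v)

theorem card_on : Nat.card ON = 460815505920 := Cfsg.Agent.KFacts.ON.OneClass.card_ON

theorem finite_on : Finite ON := Cfsg.Agent.KFacts.ON.OneClass.finite_ON

theorem simple_on : IsSimpleGroup ON := Cfsg.Agent.KFacts.ON.OneClass.hs

theorem five : NoE 5 ON := by
  have := finite_on
  have : Fact (Nat.Prime 5) := ⟨by norm_num⟩
  have hs : IsSimpleGroup (J ⧸ center J) := Cfsg.Agent.KFacts.ON.Qs.simple_J
  have hv : orderOf v ∣ 4 := orderOf_dvd_of_pow_eq_one Cfsg.Agent.KFacts.ON.Qs.v4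
  have hc : Nat.card (center J) ∣ 4 := by
    have h1 : (center J).map J.subtype ≤ zpowers v := by
      rintro _ ⟨x, hx, rfl⟩
      exact Cfsg.Agent.KFacts.ON.Qs.mem_center.1 hx
    have h2 := Subgroup.card_dvd_of_le h1
    rw [Subgroup.card_map_of_injective J.subtype_injective, Nat.card_zpowers] at h2
    exact h2.trans hv
  refine NoE.of_lw (cyclic_of_card (by rw [card_on]; norm_num))
    (Lw.of_hom (L := J) ?_ (by rw [card_J]; norm_num) (QuotientGroup.mk' (center J))
      (QuotientGroup.mk'_surjective _) (rad_eq_bot_of_simple fun hsol => ?_) ?_)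
  · intro h
    have h1 := card_J
    rw [h, card_top, card_on] at h1
    norm_num at h1
  · refine not_comm_of_card (K := J ⧸ center J) ?_ ⟨⟨fun a b => IsSimpleGroup.comm_iff_isSolvable.2 hsol a b⟩⟩
    intro hp
    have h1 : Nat.card (J ⧸ center J) * Nat.card (center J) = 80640 := by
      rw [← Subgroup.card_eq_card_quotient_mul_card_subgroup, card_J]
    obtain ⟨k, hk⟩ := hc
    have h2 : 20160 ∣ Nat.card (J ⧸ center J) := by
      refine ⟨k, ?_⟩
      have h3 : 0 < Nat.card (center J) := Nat.card_pos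
      have h4 : Nat.card (J ⧸ center J) * Nat.card (center J) = 20160 * k * Nat.card (center J) := by
        rw [h1]
        calc 80640 = 20160 * 4 := by norm_num
          _ = 20160 * (Nat.card (center J) * k) := by rw [← hk]
          _ = _ := by ring
      exact Nat.eq_of_mul_eq_mul_right h3 h4
    have h3 : (2 : ℕ) ∣ Nat.card (J ⧸ center J) := (by norm_num : 2 ∣ 20160).trans h2
    have h4 := (Nat.prime_dvd_prime_iff_eq Nat.prime_two hp).1 h3
    rw [← h4] at h2
    norm_num at h2
  · rw [QuotientGroup.ker_mk']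
    intro h
    have := h.trans hc
    norm_num at this

/-- the subgroup `L₃(7):2` -/
theorem seven : NoE 7 ON := by
  have := finite_on
  have : Fact (Nat.Prime 7) := ⟨by norm_num⟩
  obtain ⟨N, hN, hi, ⟨e⟩⟩ := Cfsg.Agent.SporRec.ONAssembly.exists_normal Cfsg.Agent.SporRec.ONLower.ab_ne_one
  have hsP : IsSimpleGroup (Matrix.ProjectiveSpecialLinearGroup (Fin 3) (ZMod 7)) :=
    Cfsg.Agent.SporRec.ONL37.simple_PSL37
  have hcH := Cfsg.Agent.SporRec.ONAssembly.card_H Cfsg.Agent.SporRec.ONLower.ab_ne_one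
  have hiH : (Cfsg.Agent.SporRec.ONAssembly.H).index = 122760 := by
    have h1 := (Cfsg.Agent.SporRec.ONAssembly.H).card_mul_index
    rw [hcH, card_on] at h1
    omega
  have hnt : Nontrivial N := e.toEquiv.nontrivial
  have hsN : IsSimpleGroup N := IsSimpleGroup.isSimpleGroup_of_surjective e.symm.toMonoidHom e.symm.surjective
  have hcN : Nat.card N = 1876896 := by
    have h1 := N.card_mul_index
    rw [hi, hcH] at h1
    omega
  have hnot : ¬ Group.IsSolvable N := fun hsol => not_comm_of_card (K := N) (by rw [hcN]; norm_num)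
    ⟨⟨fun a b => IsSimpleGroup.comm_iff_isSolvable.2 hsol a b⟩⟩
  refine noE_of_index (L := Cfsg.Agent.SporRec.ONAssembly.H) ?_ ?_ ?_
  · intro h
    rw [h, card_top, card_on] at hcH
    norm_num at hcH
  · rw [hiH]
    norm_num
  · have h2 : Nat.card (radIn Cfsg.Agent.SporRec.ONAssembly.H) =
        Nat.card (solvableRadical Cfsg.Agent.SporRec.ONAssembly.H) :=
      Subgroup.card_map_of_injective (Cfsg.Agent.SporRec.ONAssembly.H).subtype_injective
    rw [h2]
    set R := solvableRadical Cfsg.Agent.SporRec.ONAssembly.H with hR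
    have hRn : R.Normal := rad_normal _
    have h3 : R.subgroupOf N = ⊥ := by
      rcases (inferInstance : (R.subgroupOf N).Normal).eq_bot_or_eq_top with h4 | h4
      · exact h4
      · exfalso
        apply hnot
        have h5 : N ≤ R := Subgroup.subgroupOf_eq_top.1 h4
        exact Cfsg.Agent.SignalizersComponents.ComponentExists.isSolvable_of_le h5 (rad_solvable _)
    have h4 : N.subgroupOf R = ⊥ := by
      rw [Subgroup.subgroupOf_eq_bot] at h3 ⊢
      exact h3.symm
    have h5 : N.relIndex R ∣ 2 := hi ▸ Subgroup.relIndex_dvd_index_of_normal N R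
    have h6 : N.relIndex R = Nat.card R := by
      rw [Subgroup.relIndex, h4, Subgroup.index_bot]
    rw [h6] at h5
    intro h7
    have := h7.trans h5
    norm_num at this

/-- the centralizer of an element of order `31` has odd order -/
theorem odd_cent {x : ON} (hx : orderOf x = 31) : ¬ 2 ∣ Nat.card (centralizer ({x} : Set ON)) := by
  have := finite_on
  intro h
  have : Fact (Nat.Prime 2) := ⟨Nat.prime_two⟩
  obtain ⟨⟨t, ht⟩, ht2⟩ := exists_prime_orderOf_dvd_card' (G := centralizer ({x} : Set ON)) 2 h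
  rw [Subgroup.orderOf_mk] at ht2
  have h1 : t * t = 1 := by
    rw [← pow_two, ← ht2]
    exact pow_orderOf_eq_one t
  have h2 : t ≠ 1 := by
    rintro rfl
    rw [orderOf_one] at ht2
    omega
  obtain ⟨g, hg⟩ := isConj_iff.1 (Cfsg.Agent.KFacts.ON.OneClass.one_class h1 h2)
  have h3 : g * x * g⁻¹ ∈ centralizer ({on .f} : Set ON) := by
    rw [mem_centralizer_singleton_iff]
    have h4 := mem_centralizer_singleton_iff.1 ht
    rw [← hg]
    calc g * x * g⁻¹ * (g * t * g⁻¹) = g * (x * t) * g⁻¹ := by group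
      _ = g * (t * x) * g⁻¹ := by rw [h4]
      _ = _ := by group
  have h4 := orderOf_dvd_natCard (⟨_, h3⟩ : centralizer ({on .f} : Set ON))
  rw [Subgroup.orderOf_mk, Cfsg.Agent.KFacts.ON.Cent.card_cent] at h4
  have h5 : orderOf (g * x * g⁻¹) = 31 := by
    rw [← hx]
    exact orderOf_injective (MulAut.conj g).toMonoidHom (MulAut.conj g).injective x
  rw [h5] at h4
  norm_num at h4

theorem cond_two {K : Type*} [Group K] [Finite K] (hK : Nat.card K = 460815505920) : ∃ T : Sylow 2 K,
    ∀ a j n : ℕ, Nat.card T = 2 ^ (a + j) → 31 ∣ 2 ^ a - 1 → 2 ^ j ∣ 31 - 1 → 0 < n → 31 ∣ 2 ^ n - 1 → n ≤ a →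
      (∃ W : Subgroup K, W ≤ T ∧ (∀ w ∈ W, ∀ u ∈ (T : Subgroup K), w * u = u * w) ∧ (∀ w ∈ W, w ^ 2 = 1) ∧
        2 ^ n ≤ Nat.card W ^ (2 ^ j)) → False := by
  have : Fact (Nat.Prime 2) := ⟨Nat.prime_two⟩
  obtain ⟨T⟩ : Nonempty (Sylow 2 K) := inferInstance
  refine ⟨T, fun a j _ hT ha hj _ _ _ _ => ?_⟩
  have h1 : Nat.card T = 2 ^ 9 := by
    rw [Sylow.card_eq_multiplicity, hK, show (460815505920 : ℕ) = 2 ^ 9 * 900030285 by norm_num,
      Nat.factorization_mul (by norm_num) (by norm_num), Nat.Prime.factorization_pow Nat.prime_two,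
      Finsupp.add_apply, Finsupp.single_eq_same,
      Nat.factorization_eq_zero_of_not_dvd (by norm_num : ¬ 2 ∣ 900030285)]
  rw [h1] at hT
  have h2 : 9 = a + j := Nat.pow_right_injective (le_refl 2) hT
  have hj1 : j ≤ 1 := by
    by_contra h5
    have h6 : (2 : ℕ) ^ 2 ∣ 31 - 1 := (pow_dvd_pow 2 (by omega : 2 ≤ j)).trans hj
    norm_num at h6
  have h3 : a = 9 ∨ a = 8 := by omega
  rcases h3 with rfl | rfl <;> norm_num at ha

/-- **`ON`** -/
theorem noE_on {K : Type*} [Group K] [Finite K] [IsSimpleGroup K] (h : Cfsg.Spor.IsoON K) {p : ℕ} [hf : Fact p.Prime]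
    (hp : 5 ≤ p) (hb : Blk p K) (hO : ThO p K) : NoE p K := by
  obtain ⟨e⟩ := h
  have := finite_on
  have hc : Nat.card K = 460815505920 := (Nat.card_congr e.toEquiv).trans card_on
  have hna : ¬ IsMulCommutative K := not_comm_of_card (by rw [hc]; norm_num)
  by_cases hd : p ∣ 460815505920
  swap
  · exact noE_of_not_dvd (by rw [hc]; exact hd)
  have hpp := hf.out
  have h1 : p ∣ 2 ^ 9 * 3 ^ 4 * 5 * 7 ^ 3 * 11 * 19 * 31 := by norm_num; exact hd
  have h2 : p = 5 ∨ p = 7 ∨ p = 11 ∨ p = 19 ∨ p = 31 := by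
    rw [hpp.dvd_mul, hpp.dvd_mul, hpp.dvd_mul, hpp.dvd_mul, hpp.dvd_mul, hpp.dvd_mul] at h1
    have key : ∀ {q : ℕ}, q.Prime → p ∣ q → p = q := fun hq h => (Nat.prime_dvd_prime_iff_eq hpp hq).1 h
    rcases h1 with (((((h1 | h1) | h1) | h1) | h1) | h1) | h1
    · have := key Nat.prime_two (hpp.dvd_of_dvd_pow h1); omega
    · have := key Nat.prime_three (hpp.dvd_of_dvd_pow h1); omega
    · have := key (by norm_num) h1; omega
    · have := key (by norm_num) (hpp.dvd_of_dvd_pow h1); omega
    · have := key (by norm_num) h1; omega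
    · have := key (by norm_num) h1; omega
    · have := key (by norm_num) h1; omega
  have two : ∀ {t : ℕ}, t.Prime → t ∣ 2 → t = 2 := fun ht h => (Nat.prime_dvd_prime_iff_eq ht Nat.prime_two).1 h
  have three : ∀ {t : ℕ}, t.Prime → t ∣ 3 → t = 3 := fun ht h => (Nat.prime_dvd_prime_iff_eq ht Nat.prime_three).1 h
  have fiv : ∀ {t : ℕ}, t.Prime → t ∣ 5 → t = 5 := fun ht h => (Nat.prime_dvd_prime_iff_eq ht (by norm_num)).1 h
  rcases h2 with rfl | rfl | rfl | rfl | rfl
  · exact NoE.congr e five
  · exact NoE.congr e seven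
  · refine noE_of_order hna (by rw [hc]; norm_num) hb hO fun t ht htd => ?_
    have h3 : t ∣ 2 * 5 := htd
    rcases ht.dvd_mul.1 h3 with h4 | h4
    · have := two ht h4
      subst this
      exact cond_order (v := 9) (by rw [hc]; norm_num) (by decide)
    · have := fiv ht h4
      subst this
      exact cond_order (v := 1) (by rw [hc]; norm_num) (by decide)
  · refine noE_of_order hna (by rw [hc]; norm_num) hb hO fun t ht htd => ?_
    have h3 : t ∣ 2 * 3 ^ 2 := htd
    rcases ht.dvd_mul.1 h3 with h4 | h4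
    · have := two ht h4
      subst this
      exact cond_order (v := 9) (by rw [hc]; norm_num) (by decide)
    · have := three ht (ht.dvd_of_dvd_pow h4)
      subst this
      exact cond_order (v := 4) (by rw [hc]; norm_num) (by decide)
  · have hcyc := cyclic_of_card (K := K) (p := 31) (by rw [hc]; norm_num)
    refine NoE.of_m0 hna hcyc fun x hx hR hY => m0_num hcyc hb hO hx hR hY fun t ht _ htd => ?_
    have h3 : t ∣ 2 * 3 * 5 := htd
    rcases ht.dvd_mul.1 h3 with h4 | h4
    · rcases ht.dvd_mul.1 h4 with h4 | h4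
      · have := two ht h4
        subst this
        refine Or.inr ⟨?_, cond_two hc⟩
        rw [Cfsg.Agent.H301.SY.card_centralizer e x]
        exact odd_cent ((orderOf_injective e.toMonoidHom e.injective x).trans hx)
      · have := three ht h4
        subst this
        exact Or.inl (cond_order (v := 4) (by rw [hc]; norm_num) (by decide))
    · have := fiv ht h4
      subst this
      exact Or.inl (cond_order (v := 1) (by rw [hc]; norm_num) (by decide))

end Cfsg.Agent.H51.SY.ON
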