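import Cfsg.Agent.H51.SY.Num
import Cfsg.Agent.H478.RadJ4
import Cfsg.Agent.H859.BigNum
import Cfsg.Agent.H49.JFourThree

/-!
# S3846: the fourth Janko group (helper51)

`p = 5, 7, 23` : the subgroup `M₂₄`; `p = 11` : every element of order 11 commutes with an involution; `p = 29, 37` : by
order; `p = 31, 43` : Theorem O for the prime `2`.
-/

set_option autoImplicit false

namespace Cfsg.Agent.H51.SY.J4

open Subgroup Cfsg Cfsg.Agent.H301.SY Cfsg.Agent.H459.Rad Cfsg.Agent.H51.SY Cfsg.Agent.H839.Rad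

theorem card_J4 : Nat.card Spor.J4 = 86775571046077562880 := Cfsg.Agent.J4.Final.card_J4

theorem finite_J4 : Finite Spor.J4 := Nat.finite_of_card_ne_zero (by rw [card_J4]; norm_num)

theorem simple_J4 : IsSimpleGroup Spor.J4 := Cfsg.Agent.J4.Final.isSimple_card.1

theorem of_M24 {p : ℕ} (hp : p.Prime) (h : p ∣ 244823040) (h2 : ¬ p ^ 2 ∣ 86775571046077562880) : NoE p Spor.J4 := by
  have := finite_J4
  have : Fact p.Prime := ⟨hp⟩
  have hs : IsSimpleGroup M24 := Cfsg.Agent.S0365.result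
  have hf : Finite M24 := Nat.finite_of_card_ne_zero (by rw [Cfsg.Agent.S2038.card_M24]; norm_num)
  refine NoE.of_lw (cyclic_of_card (by rw [card_J4]; exact h2))
    (Lw.of_simple (Q := M24) (fun hsol => not_comm_of_card (K := M24) (by
      rw [Cfsg.Agent.S2038.card_M24]
      norm_num) ⟨⟨fun a b => IsSimpleGroup.comm_iff_isSolvable.2 hsol a b⟩⟩) (by
      rw [Cfsg.Agent.S2038.card_M24]
      exact h) Cfsg.Agent.J4.Pres.phi Cfsg.Agent.H49.JFourThree.phi_injective ?_)
  intro h3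
  have h4 := Cfsg.Agent.H49.JFourThree.card_range
  rw [MonoidHom.range_eq_top.2 h3, card_top, card_J4] at h4
  norm_num at h4

/-- no element of order `p` in the radical -/
theorem not_dvd_rad {K : Type*} [Group K] [Finite K] {p : ℕ} (hp : p.Prime) {L : Subgroup K} (h : RadFree p L) :
    ¬ p ∣ Nat.card (radIn L) := by
  intro h1
  have : Fact p.Prime := ⟨hp⟩
  have h2 : Nat.card (radIn L) = Nat.card (solvableRadical L) :=
    Subgroup.card_map_of_injective L.subtype_injective
  rw [h2] at h1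
  obtain ⟨x, hx⟩ := exists_prime_orderOf_dvd_card' (G := solvableRadical L) p h1
  exact h x (by rw [Subgroup.orderOf_coe, hx]) x.2

theorem eleven : NoE 11 Spor.J4 := by
  have := finite_J4
  have hs := simple_J4
  have : Fact (Nat.Prime 11) := ⟨by norm_num⟩
  have hG : ¬ IsMulCommutative Spor.J4 := not_comm_of_card (by rw [card_J4]; norm_num)
  obtain ⟨z, hz⟩ := Cfsg.Agent.H337.isOfJankoFourType_of_isoJ4 (G := Spor.J4) ⟨MulEquiv.refl _⟩
  refine NoE.of_even (Cfsg.Agent.H301.SY.center_eq_bot hG) fun x hx => ?_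
  obtain ⟨t, ht, hxt⟩ := Cfsg.Agent.H478.RadJ4.exists_invol hx
  refine ⟨t, ?_, hxt.symm, not_dvd_rad (by norm_num) (Cfsg.Agent.H478.RadJ4.radFree_invol hG hz ht)⟩
  rintro rfl
  rw [orderOf_one] at ht
  omega

/-- elements of order two in the centre of a Sylow 2-subgroup -/
theorem exists_sylow {K : Type*} [Group K] [Finite K] (h : Cfsg.Spor.IsoJ4 K) : ∃ T : Sylow 2 K,
    ∀ W : Subgroup K, W ≤ T → (∀ w ∈ W, ∀ u ∈ (T : Subgroup K), w * u = u * w) → Nat.card W ≤ 2 := by
  obtain ⟨z, P, hz, ⟨-, hQ⟩, hcard, hself, -, -, hfix, -⟩ := Cfsg.Agent.H337.isOfJankoFourType_of_isoJ4 h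
  set Q := twoCoreOfCentralizer z with hQd
  have hzQ : z ∈ Q := by
    have h1 : z ∈ Q ⊓ centralizer (P : Set K) := by rw [hfix]; exact mem_zpowers z
    exact h1.1
  have : Fact (Nat.Prime 2) := ⟨Nat.prime_two⟩
  have hQp : IsPGroup 2 Q := IsPGroup.of_card hcard
  obtain ⟨T, hT⟩ := hQp.exists_le_sylow
  refine ⟨T, fun W hW hc => ?_⟩
  have hWQ : ∀ w ∈ W, w ∈ Q := by
    intro w hw
    apply hself
    refine ⟨mem_centralizer_singleton_iff.2 (hc w hw z (hT hzQ)), mem_centralizer_iff.2 fun q hq => ?_⟩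
    exact (hc w hw q (hT hq)).symm
  have h1 : W.subgroupOf Q ≤ center Q := by
    intro w hw
    rw [mem_center_iff]
    intro q
    exact Subtype.ext (hc w (mem_subgroupOf.1 hw) q (hT q.2)).symm
  have h2 : Nat.card (W.subgroupOf Q) = Nat.card W := Nat.card_congr (subgroupOfEquivOfLe hWQ).toEquiv
  rw [← h2, ← hQ]
  exact Nat.le_of_dvd Nat.card_pos (Subgroup.card_dvd_of_le h1)

/-- Theorem O for the prime `2` -/
theorem cond_two {K : Type*} [Group K] [Finite K] (h : Cfsg.Spor.IsoJ4 K) {p : ℕ} (h1 : ¬ p ∣ 2 ^ 1 - 1)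
    (h2 : ¬ p ∣ 2 ^ 2 - 1) (h4 : ¬ 4 ∣ p - 1) : ∃ T : Sylow 2 K, ∀ a j n : ℕ,
      Nat.card T = 2 ^ (a + j) → p ∣ 2 ^ a - 1 → 2 ^ j ∣ p - 1 → 0 < n → p ∣ 2 ^ n - 1 → n ≤ a →
      (∃ W : Subgroup K, W ≤ T ∧ (∀ w ∈ W, ∀ u ∈ (T : Subgroup K), w * u = u * w) ∧ (∀ w ∈ W, w ^ 2 = 1) ∧
        2 ^ n ≤ Nat.card W ^ (2 ^ j)) → False := by
  obtain ⟨T, hT⟩ := exists_sylow h
  refine ⟨T, fun a j n _ _ hj hn hpn _ hW => ?_⟩
  obtain ⟨W, hW1, hW2, -, hW4⟩ := hW
  have hj1 : j ≤ 1 := by
    by_contra h5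
    exact h4 (((by norm_num : (4 : ℕ) = 2 ^ 2) ▸ pow_dvd_pow 2 (by omega : 2 ≤ j)).trans hj)
  have hW5 : Nat.card W ^ (2 ^ j) ≤ 2 ^ (2 ^ j) := Nat.pow_le_pow_left (hT W hW1 hW2) _
  have hn2 : n ≤ 2 ^ j := (Nat.pow_le_pow_iff_right (by norm_num : 1 < 2)).1 (hW4.trans hW5)
  have hn3 : n ≤ 2 := hn2.trans (by
    calc 2 ^ j ≤ 2 ^ 1 := Nat.pow_le_pow_right (by norm_num) hj1
      _ = 2 := by norm_num)
  interval_cases n
  · exact h1 hpn
  · exact h2 hpn

/-- the centralizers of the elements of order `31` and `43` have odd order -/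
theorem odd_cent {K : Type*} [Group K] [Finite K] (e : K ≃* Spor.J4) {p : ℕ} [hp : Fact p.Prime] (hp2 : ¬ 2 ∣ p)
    (h : ∀ P : Subgroup Spor.J4, Nat.card P = p → Nat.card (centralizer (P : Set Spor.J4)) = p) {x : K}
    (hx : orderOf x = p) : ¬ 2 ∣ Nat.card (centralizer ({x} : Set K)) := by
  have h1 : Nat.card (zpowers (e x)) = p := by rw [Nat.card_zpowers, MulEquiv.orderOf_eq, hx]
  have h2 := h _ h1
  rw [zpowers_eq_closure, Subgroup.centralizer_closure] at h2
  have h3 := Cfsg.Agent.H301.SY.card_centralizer e x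
  intro h4
  apply hp2
  rw [← h2]
  rwa [← h3]

/-- **`J4`** -/
theorem noE_j4 {K : Type*} [Group K] [Finite K] [IsSimpleGroup K] (h : Cfsg.Spor.IsoJ4 K) {p : ℕ} [hf : Fact p.Prime]
    (hp : 5 ≤ p) (hb : Blk p K) (hO : ThO p K) : NoE p K := by
  have hJ := h
  obtain ⟨e⟩ := h
  have := finite_J4
  have hc : Nat.card K = 86775571046077562880 := (Nat.card_congr e.toEquiv).trans card_J4
  have hna : ¬ IsMulCommutative K := not_comm_of_card (by rw [hc]; norm_num)
  by_cases hd : p ∣ 86775571046077562880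
  swap
  · exact noE_of_not_dvd (by rw [hc]; exact hd)
  have hpp := hf.out
  have h1 : p ∣ 2 ^ 21 * 3 ^ 3 * 5 * 7 * 11 ^ 3 * 23 * 29 * 31 * 37 * 43 := by norm_num; exact hd
  have h2 : p = 5 ∨ p = 7 ∨ p = 11 ∨ p = 23 ∨ p = 29 ∨ p = 31 ∨ p = 37 ∨ p = 43 := by
    rw [hpp.dvd_mul, hpp.dvd_mul, hpp.dvd_mul, hpp.dvd_mul, hpp.dvd_mul, hpp.dvd_mul, hpp.dvd_mul, hpp.dvd_mul,
      hpp.dvd_mul] at h1
    have key : ∀ {q : ℕ}, q.Prime → p ∣ q → p = q := fun hq h => (Nat.prime_dvd_prime_iff_eq hpp hq).1 h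
    rcases h1 with ((((((((h1 | h1) | h1) | h1) | h1) | h1) | h1) | h1) | h1) | h1
    · have := key Nat.prime_two (hpp.dvd_of_dvd_pow h1); omega
    · have := key Nat.prime_three (hpp.dvd_of_dvd_pow h1); omega
    · have := key Nat.prime_five h1; omega
    · have := key (by norm_num) h1; omega
    · have := key (by norm_num) (hpp.dvd_of_dvd_pow h1); omega
    · have := key (by norm_num) h1; omega
    · have := key (by norm_num) h1; omega
    · have := key (by norm_num) h1; omega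
    · have := key (by norm_num) h1; omega
    · have := key (by norm_num) h1; omega
  have two : ∀ {t : ℕ}, t.Prime → t ∣ 2 → t = 2 := fun ht h => (Nat.prime_dvd_prime_iff_eq ht Nat.prime_two).1 h
  have three : ∀ {t : ℕ}, t.Prime → t ∣ 3 → t = 3 := fun ht h => (Nat.prime_dvd_prime_iff_eq ht Nat.prime_three).1 h
  rcases h2 with rfl | rfl | rfl | rfl | rfl | rfl | rfl | rfl
  · exact NoE.congr e (of_M24 hpp (by norm_num) (by norm_num))
  · exact NoE.congr e (of_M24 hpp (by norm_num) (by norm_num))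
  · exact NoE.congr e eleven
  · exact NoE.congr e (of_M24 hpp (by norm_num) (by norm_num))
  · refine noE_of_order hna (by rw [hc]; norm_num) hb hO fun t ht htd => ?_
    have h3 : t ∣ 2 ^ 2 * 7 := htd
    rcases ht.dvd_mul.1 h3 with h4 | h4
    · have := two ht (ht.dvd_of_dvd_pow h4)
      subst this
      exact cond_order (v := 21) (by rw [hc]; norm_num) (by decide)
    · have := (Nat.prime_dvd_prime_iff_eq ht (by norm_num)).1 h4
      subst this
      exact cond_order (v := 1) (by rw [hc]; norm_num) (by decide)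
  · have hcyc := cyclic_of_card (K := K) (p := 31) (by rw [hc]; norm_num)
    refine NoE.of_m0 hna hcyc fun x hx hR hY => m0_num hcyc hb hO hx hR hY fun t ht _ htd => ?_
    have h3 : t ∣ 2 * 3 * 5 := htd
    rcases ht.dvd_mul.1 h3 with h4 | h4
    · rcases ht.dvd_mul.1 h4 with h4 | h4
      · have := two ht h4
        subst this
        exact Or.inr ⟨odd_cent e (by norm_num) (fun P hP => (Cfsg.Agent.H859.BigNum.data31 hP).1) hx,
          cond_two hJ (by norm_num) (by norm_num) (by norm_num)⟩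
      · have := three ht h4
        subst this
        exact Or.inl (cond_order (v := 3) (by rw [hc]; norm_num) (by decide))
    · have := (Nat.prime_dvd_prime_iff_eq ht (by norm_num)).1 h4
      subst this
      exact Or.inl (cond_order (v := 1) (by rw [hc]; norm_num) (by decide))
  · refine noE_of_order hna (by rw [hc]; norm_num) hb hO fun t ht htd => ?_
    have h3 : t ∣ 2 ^ 2 * 3 ^ 2 := htd
    rcases ht.dvd_mul.1 h3 with h4 | h4
    · have := two ht (ht.dvd_of_dvd_pow h4)
      subst this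
      exact cond_order (v := 21) (by rw [hc]; norm_num) (by decide)
    · have := three ht (ht.dvd_of_dvd_pow h4)
      subst this
      exact cond_order (v := 3) (by rw [hc]; norm_num) (by decide)
  · have hcyc := cyclic_of_card (K := K) (p := 43) (by rw [hc]; norm_num)
    refine NoE.of_m0 hna hcyc fun x hx hR hY => m0_num hcyc hb hO hx hR hY fun t ht _ htd => ?_
    have h3 : t ∣ 2 * 3 * 7 := htd
    rcases ht.dvd_mul.1 h3 with h4 | h4
    · rcases ht.dvd_mul.1 h4 with h4 | h4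
      · have := two ht h4
        subst this
        exact Or.inr ⟨odd_cent e (by norm_num) (fun P hP => (Cfsg.Agent.H859.BigNum.data43 hP).1) hx,
          cond_two hJ (by norm_num) (by norm_num) (by norm_num)⟩
      · have := three ht h4
        subst this
        exact Or.inl (cond_order (v := 3) (by rw [hc]; norm_num) (by decide))
    · have := (Nat.prime_dvd_prime_iff_eq ht (by norm_num)).1 h4
      subst this
      exact Or.inl (cond_order (v := 1) (by rw [hc]; norm_num) (by decide))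

end Cfsg.Agent.H51.SY.J4
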