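import Cfsg.Agent.H51.SY.Num
import Cfsg.Agent.R10.Close
import Cfsg.Agent.Ly.IndexEq
import Cfsg.Agent.SporRec.LyG2.LyEmb

/-!
# S3846: the Lyons group (helper51)

`p = 5, 7, 31` : the subgroup `G₂(5)`; `p = 11` : the centralizer `2.A₁₁` of an involution; `p = 37, 67` : by order.
-/

set_option autoImplicit false

namespace Cfsg.Agent.H51.SY.Ly

open Subgroup Cfsg.Agent.H301.SY Cfsg.Agent.H459.Rad Cfsg.Agent.SporRec.LyG2 Cfsg.Agent.H51.SY

theorem card_ly : Nat.card Cfsg.Spor.Ly = 51765179004000000 := Cfsg.Agent.Ly.IndexEq.card_ly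

theorem finite_ly : Finite Cfsg.Spor.Ly := Nat.finite_of_card_ne_zero (by rw [card_ly]; norm_num)

theorem simple_ly : IsSimpleGroup Cfsg.Spor.Ly := Cfsg.Agent.Ly.Setup.isLy'.1

theorem H_ne : LyEmb.H ≠ ⊤ := by
  intro h
  have h1 := LyEmb.card_H
  rw [h, card_top, card_ly] at h1
  norm_num at h1

theorem index_H : LyEmb.H.index = 8835156 := by
  have h := LyEmb.H.card_mul_index
  rw [LyEmb.card_H, card_ly] at h
  omega

theorem rad_H {p : ℕ} (hp : p.Prime) : ¬ p ∣ Nat.card (radIn LyEmb.H) := by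
  have := finite_ly
  have hs : IsSimpleGroup LyEmb.H := LyEmb.isSimpleGroup_H
  exact card_radIn_of_simple hp (by rw [LyEmb.card_H]; norm_num)

theorem five : NoE 5 Cfsg.Spor.Ly := by
  have := finite_ly
  have : Fact (Nat.Prime 5) := ⟨by norm_num⟩
  exact noE_of_index H_ne (by rw [index_H]; norm_num) (rad_H (by norm_num))

theorem of_H {p : ℕ} (hp : p.Prime) (h : p ∣ 5859000000) (h2 : ¬ p ^ 2 ∣ 51765179004000000) : NoE p Cfsg.Spor.Ly := by
  have := finite_ly
  have : Fact p.Prime := ⟨hp⟩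
  exact NoE.of_lw (cyclic_of_card (by rw [card_ly]; exact h2)) ⟨LyEmb.H, H_ne, by rw [LyEmb.card_H]; exact h, rad_H hp⟩

theorem eleven : NoE 11 Cfsg.Spor.Ly := by
  have := finite_ly
  have : Fact (Nat.Prime 11) := ⟨by norm_num⟩
  obtain ⟨h1, h2, ⟨e⟩, -⟩ := Cfsg.Agent.R10.Close.cover_τ
  refine NoE.of_lw (cyclic_of_card (by rw [card_ly]; norm_num))
    (Lw.of_hom (L := centralizer ({Cfsg.Agent.R10.Close.τ} : Set Cfsg.Spor.Ly)) ?_ (by rw [h1]; norm_num)
      (e.toMonoidHom.comp (QuotientGroup.mk' _)) (e.surjective.comp (QuotientGroup.mk'_surjective _)) ?_ ?_)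
  · intro h
    rw [h, card_top, card_ly] at h1
    norm_num at h1
  · have hs : IsSimpleGroup (alternatingGroup (Fin 11)) :=
      alternatingGroup.isSimpleGroup (by rw [Nat.card_eq_fintype_card, Fintype.card_fin]; norm_num)
    exact rad_eq_bot_of_simple fun hsol => not_comm_of_card (K := alternatingGroup (Fin 11)) (by
      rw [nat_card_alternatingGroup, Nat.card_eq_fintype_card, Fintype.card_fin]
      norm_num [Nat.factorial])
      ⟨⟨fun a b => IsSimpleGroup.comm_iff_isSolvable.2 hsol a b⟩⟩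
  · have h3 : (e.toMonoidHom.comp (QuotientGroup.mk' (center
        ↥(centralizer ({Cfsg.Agent.R10.Close.τ} : Set Cfsg.Spor.Ly))))).ker =
        center ↥(centralizer ({Cfsg.Agent.R10.Close.τ} : Set Cfsg.Spor.Ly)) := by
      ext z
      rw [MonoidHom.mem_ker]
      exact e.map_eq_one_iff.trans (QuotientGroup.eq_one_iff z)
    rw [h3, h2]
    norm_num

/-- **`Ly`** -/
theorem noE_ly {K : Type*} [Group K] [Finite K] [IsSimpleGroup K] (h : Cfsg.Spor.IsoLy K) {p : ℕ} [hf : Fact p.Prime]
    (hp : 5 ≤ p) (hb : Blk p K) (hO : ThO p K) : NoE p K := by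
  obtain ⟨e⟩ := h
  have := finite_ly
  have hc : Nat.card K = 51765179004000000 := (Nat.card_congr e.toEquiv).trans card_ly
  have hna : ¬ IsMulCommutative K := not_comm_of_card (by rw [hc]; norm_num)
  by_cases hd : p ∣ 51765179004000000
  swap
  · exact noE_of_not_dvd (by rw [hc]; exact hd)
  have hpp := hf.out
  have h1 : p ∣ 2 ^ 8 * 3 ^ 7 * 5 ^ 6 * 7 * 11 * 31 * 37 * 67 := by norm_num; exact hd
  have h2 : p = 5 ∨ p = 7 ∨ p = 11 ∨ p = 31 ∨ p = 37 ∨ p = 67 := by
    rw [hpp.dvd_mul, hpp.dvd_mul, hpp.dvd_mul, hpp.dvd_mul, hpp.dvd_mul, hpp.dvd_mul, hpp.dvd_mul] at h1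
    have key : ∀ {q : ℕ}, q.Prime → p ∣ q → p = q := fun hq h => (Nat.prime_dvd_prime_iff_eq hpp hq).1 h
    rcases h1 with ((((((h1 | h1) | h1) | h1) | h1) | h1) | h1) | h1
    · have := key Nat.prime_two (hpp.dvd_of_dvd_pow h1); omega
    · have := key Nat.prime_three (hpp.dvd_of_dvd_pow h1); omega
    · have := key Nat.prime_five (hpp.dvd_of_dvd_pow h1); omega
    · have := key (by norm_num) h1; omega
    · have := key (by norm_num) h1; omega
    · have := key (by norm_num) h1; omega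
    · have := key (by norm_num) h1; omega
    · have := key (by norm_num) h1; omega
  rcases h2 with rfl | rfl | rfl | rfl | rfl | rfl
  · exact NoE.congr e five
  · exact NoE.congr e (of_H hpp (by norm_num) (by norm_num))
  · exact NoE.congr e eleven
  · exact NoE.congr e (of_H hpp (by norm_num) (by norm_num))
  · refine noE_of_order hna (by rw [hc]; norm_num) hb hO fun t ht htd => ?_
    have h3 : t ∣ 2 ^ 2 * 3 ^ 2 := htd
    rcases ht.dvd_mul.1 h3 with h4 | h4
    · have := (Nat.prime_dvd_prime_iff_eq ht Nat.prime_two).1 (ht.dvd_of_dvd_pow h4)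
      subst this
      exact cond_order (v := 8) (by rw [hc]; norm_num) (by decide)
    · have := (Nat.prime_dvd_prime_iff_eq ht Nat.prime_three).1 (ht.dvd_of_dvd_pow h4)
      subst this
      exact cond_order (v := 7) (by rw [hc]; norm_num) (by decide)
  · refine noE_of_order hna (by rw [hc]; norm_num) hb hO fun t ht htd => ?_
    have h3 : t ∣ 2 * 3 * 11 := htd
    rcases ht.dvd_mul.1 h3 with h4 | h4
    · rcases ht.dvd_mul.1 h4 with h4 | h4
      · have := (Nat.prime_dvd_prime_iff_eq ht Nat.prime_two).1 h4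
        subst this
        exact cond_order (v := 8) (by rw [hc]; norm_num) (by decide)
      · have := (Nat.prime_dvd_prime_iff_eq ht Nat.prime_three).1 h4
        subst this
        exact cond_order (v := 7) (by rw [hc]; norm_num) (by decide)
    · have := (Nat.prime_dvd_prime_iff_eq ht (by norm_num)).1 h4
      subst this
      exact cond_order (v := 1) (by rw [hc]; norm_num) (by decide)

end Cfsg.Agent.H51.SY.Ly
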