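import Cfsg.Agent.H301.SY.Spor

/-!
# S3846: numerical conditions for the sporadic rows (helper51)
-/

set_option autoImplicit false

namespace Cfsg.Agent.H51.SY

open Subgroup Cfsg.Agent.H301.SY Cfsg.Agent.H459.Rad

theorem noE_of_not_dvd {K : Type*} [Group K] {p : ℕ} (h : ¬ p ∣ Nat.card K) : NoE p K :=
  fun x hx _ _ => h (hx ▸ orderOf_dvd_natCard x)

/-- the order of `t` modulo `p` is large -/
theorem cond_order {p t N v : ℕ} (hv : ¬ t ^ (v + 1) ∣ N) (h : ∀ i ∈ Finset.Icc 1 v, ¬ t ^ i ≡ 1 [MOD p]) (i : ℕ)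
    (hi : 0 < i) (hd : t ^ i ∣ N) : ¬ t ^ i ≡ 1 [MOD p] := by
  refine h i (Finset.mem_Icc.2 ⟨hi, ?_⟩)
  by_contra h1
  exact hv ((pow_dvd_pow t (by omega)).trans hd)

/-- `M0` for all elements if for all prime divisors of `p - 1` the order is large -/
theorem noE_of_order {K : Type*} [Group K] [Finite K] [IsSimpleGroup K] (hna : ¬ IsMulCommutative K) {p : ℕ}
    [Fact p.Prime] (hcard : ¬ p ^ 2 ∣ Nat.card K) (hb : Blk p K) (hO : ThO p K)
    (h : ∀ t : ℕ, t.Prime → t ∣ p - 1 → ∀ i : ℕ, 0 < i → t ^ i ∣ Nat.card K → ¬ t ^ i ≡ 1 [MOD p]) : NoE p K :=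
  NoE.of_m0 hna (cyclic_of_card hcard) fun _ hx hR hY =>
    m0_num (cyclic_of_card hcard) hb hO hx hR hY fun t ht _ htd => Or.inl (h t ht htd)

theorem not_comm_of_card {K : Type*} [Group K] [IsSimpleGroup K] (h : ¬ (Nat.card K).Prime) :
    ¬ IsMulCommutative K := by
  intro hm
  apply h
  let _ : CommGroup K := { (inferInstance : Group K) with mul_comm := hm.1.1 }
  exact IsSimpleGroup.prime_card

/-- a proper subgroup of index prime to `p` with radical of order prime to `p` -/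
theorem noE_of_index {K : Type*} [Group K] [Finite K] {p : ℕ} [hp : Fact p.Prime] {L : Subgroup K} (hL : L ≠ ⊤)
    (hi : ¬ p ∣ L.index) (hr : ¬ p ∣ Nat.card (radIn L)) : NoE p K := by
  obtain ⟨S⟩ : Nonempty (Sylow p L) := inferInstance
  have hS : IsPGroup p ↥((S : Subgroup L).map L.subtype) := S.isPGroup'.map _
  have hc : ¬ p ∣ ((S : Subgroup L).map L.subtype).index := by
    rw [Subgroup.index_map_subtype]
    intro h1
    rcases (Nat.Prime.dvd_mul hp.out).1 h1 with h2 | h2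
    · exact S.not_dvd_index h2
    · exact hi h2
  refine NoE.of_sylow (L := L) hL (hS.toSylow hc) ?_ hr
  change (S : Subgroup L).map L.subtype ≤ L
  exact map_subtype_le _

/-- the radical of a non-abelian simple group -/
theorem card_radIn_of_simple {K : Type*} [Group K] [Finite K] {p : ℕ} (hp : p.Prime) {L : Subgroup K}
    [IsSimpleGroup L] (h : ¬ (Nat.card L).Prime) : ¬ p ∣ Nat.card (radIn L) := by
  have h2 : solvableRadical L = ⊥ := rad_eq_bot_of_simple fun hsol =>
    not_comm_of_card h ⟨⟨fun a b => IsSimpleGroup.comm_iff_isSolvable.2 hsol a b⟩⟩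
  unfold radIn
  rw [h2, Subgroup.map_bot, card_bot]
  exact fun h3 => hp.one_lt.ne' (Nat.dvd_one.1 h3)

end Cfsg.Agent.H51.SY
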